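import Mathlib.AlgebraicGeometry.Noetherian
import Mathlib.RingTheory.Ideal.Height
import Mathlib.RingTheory.Ideal.KrullsHeightTheorem
import Mathlib.Topology.NoetherianSpace
import Mathlib.Topology.Sober
import Mathlib.Order.OrderIsoNat

universe u
namespace Groth.Agent.SpecializeLib

open AlgebraicGeometry

/-- strict generization. -/
def Gen {S : Type u} [TopologicalSpace S] (y x : S) : Prop := y ⤳ x ∧ y ≠ x

theorem gen_wellFounded (S : Scheme.{u}) [IsLocallyNoetherian S] : WellFounded (Gen (S := S)) := by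
  rw [wellFounded_iff_isEmpty_descending_chain]
  refine ⟨fun ⟨f, hf⟩ => ?_⟩
  obtain ⟨_, ⟨U, hU, rfl⟩, hxU, -⟩ := S.isBasis_affineOpens.exists_subset_of_mem_open
    (Set.mem_univ (f 0)) isOpen_univ
  have hmem : ∀ n, f n ∈ (U : Set S) := fun n => by
    induction n with
    | zero => exact hxU
    | succ n ih => exact (hf n).1.mem_open U.2 ih
  haveI : IsNoetherianRing Γ(S, U) := IsLocallyNoetherian.component_noetherian ⟨U, hU⟩
  let P : ℕ → PrimeSpectrum Γ(S, U) := fun n => hU.primeIdealOf ⟨f n, hmem n⟩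
  have hP : ∀ n, hU.fromSpec (P n) = f n := fun n => hU.fromSpec_primeIdealOf _
  have hlt : ∀ n, P (n + 1) < P n := fun n => by
    refine lt_of_le_of_ne ((PrimeSpectrum.le_iff_specializes _ _).mpr ?_) fun h => (hf n).2 ?_
    · refine hU.fromSpec.isOpenEmbedding.isInducing.specializes_iff.mp ?_
      rw [hP, hP]
      exact (hf n).1
    · rw [← hP, ← hP, h]
  exact not_strictAnti_of_wellFoundedLT (fun n => (P n).asIdeal.height)
    (strictAnti_nat_of_succ_lt fun n => Ideal.height_strict_mono_of_isPrime (hlt n))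

theorem eq_of_gen_gen {S : Type u} [TopologicalSpace S] [T0Space S] {a b : S}
    (h₁ : a ⤳ b) (h₂ : b ⤳ a) : a = b := (h₁.antisymm h₂).eq

theorem exists_maximal (S : Scheme.{u}) [IsLocallyNoetherian S] (T : Set S) {x : S} (hx : x ∈ T) :
    ∃ y ∈ T, y ⤳ x ∧ ∀ z ∈ T, z ⤳ y → z = y := by
  obtain ⟨y, ⟨hyT, hyx⟩, hy⟩ :=
    (gen_wellFounded S).has_min {y | y ∈ T ∧ y ⤳ x} ⟨x, hx, specializes_rfl⟩
  refine ⟨y, hyT, hyx, fun z hz hzy => ?_⟩
  by_contra hne
  exact hy z ⟨hz, hzy.trans hyx⟩ ⟨hzy, hne⟩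

open TopologicalSpace

theorem exists_antichain (S : Scheme.{u}) [IsNoetherian S] (T : Set S) (hT : T.Infinite) :
    ∃ T' : Set S, T' ⊆ T ∧ T'.Infinite ∧ ∀ a ∈ T', ∀ b ∈ T', a ⤳ b → a = b := by
  obtain ⟨Z, hZ, hmin⟩ := wellFounded_lt.has_min {Z : Closeds S | (T ∩ (Z : Set S)).Infinite}
    ⟨⊤, by simpa using hT⟩
  let T'' : Set S := {x | x ∈ T ∩ (Z : Set S) ∧ closure {x} ≠ (Z : Set S)}
  have hT'' : T''.Infinite := by
    intro hfin
    refine hZ (Set.Finite.subset (hfin.union (Set.Subsingleton.finite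
      (s := {x : S | closure {x} = (Z : Set S)}) ?_)) ?_)
    · intro a ha b hb
      exact eq_of_gen_gen (specializes_iff_closure_subset.mpr (by rw [ha, hb]))
        (specializes_iff_closure_subset.mpr (by rw [ha, hb]))
    · intro x hx
      by_cases h : closure {x} = (Z : Set S)
      exacts [Or.inr h, Or.inl ⟨hx, h⟩]
  refine ⟨{y | y ∈ T'' ∧ ∀ z ∈ T'', z ⤳ y → z = y}, fun y hy => hy.1.1.1, fun hfin => ?_,
    fun a ha b hb hab => hb.2 a ha.1 hab⟩
  refine hT'' (Set.Finite.subset (hfin.biUnion (t := fun y => T ∩ closure {y}) fun y hy => ?_) ?_)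
  · by_contra hinf
    refine hmin ⟨closure {y}, isClosed_closure⟩ hinf (lt_of_le_of_ne ?_ fun h => hy.1.2 (congrArg SetLike.coe h))
    exact closure_minimal (Set.singleton_subset_iff.mpr hy.1.1.2) Z.2
  · intro x hx
    obtain ⟨y, hy, hyx, hmax⟩ := exists_maximal S T'' hx
    exact Set.mem_biUnion (show y ∈ {y | y ∈ T'' ∧ ∀ z ∈ T'', z ⤳ y → z = y} from ⟨hy, hmax⟩)
      ⟨hx.1.1, specializes_iff_mem_closure.mp hyx⟩

theorem exists_countable (S : Scheme.{u}) [IsNoetherian S] (T : Set S) :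
    ∃ E : Set S, E ⊆ T ∧ E.Countable ∧ T ⊆ closure E := by
  suffices h : ∀ Z : Closeds S, ∀ U : Set S, U ⊆ Z →
      ∃ E : Set S, E ⊆ U ∧ E.Countable ∧ U ⊆ closure E from h ⊤ T (fun x _ => trivial)
  intro Z
  induction Z using WellFoundedLT.induction with
  | ind Z ih =>
  intro U hUZ
  have small : ∀ W : Set S, IsClosed W → ¬ (Z : Set S) ⊆ W →
      ∃ E : Set S, E ⊆ U ∩ W ∧ E.Countable ∧ U ∩ W ⊆ closure E := fun W hW hne => by
    refine ih (Z ⊓ ⟨W, hW⟩) (lt_of_le_of_ne inf_le_left fun h => hne fun x hx => ?_) _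
      fun x hx => ⟨hUZ hx.1, hx.2⟩
    have : x ∈ Z ⊓ (⟨W, hW⟩ : Closeds S) := by rw [h]; exact hx
    exact this.2
  by_cases hirr : IsIrreducible (Z : Set S)
  swap
  · by_cases hne : (Z : Set S).Nonempty
    swap
    · exact ⟨∅, Set.empty_subset _, Set.countable_empty, fun x hx => (hne ⟨x, hUZ hx⟩).elim⟩
    have hred : ¬ IsPreirreducible (Z : Set S) := fun h => hirr ⟨hne, h⟩
    rw [isPreirreducible_iff_isClosed_union_isClosed] at hred
    push Not at hred
    obtain ⟨A, B, hA, hB, hAB, hA', hB'⟩ := hred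
    obtain ⟨E₁, hE₁, hc₁, hd₁⟩ := small A hA hA'
    obtain ⟨E₂, hE₂, hc₂, hd₂⟩ := small B hB hB'
    refine ⟨E₁ ∪ E₂, Set.union_subset (fun x hx => (hE₁ hx).1) (fun x hx => (hE₂ hx).1),
      hc₁.union hc₂, fun x hx => ?_⟩
    rcases hAB (hUZ hx) with h | h
    · exact closure_mono Set.subset_union_left (hd₁ ⟨hx, h⟩)
    · exact closure_mono Set.subset_union_right (hd₂ ⟨hx, h⟩)
  obtain ⟨η, hη⟩ := QuasiSober.sober hirr Z.2
  by_cases hηU : η ∈ U
  · refine ⟨{η}, Set.singleton_subset_iff.mpr hηU, Set.countable_singleton η, ?_⟩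
    rw [hη.def]; exact hUZ
  by_cases hden : (Z : Set S) ⊆ closure U
  swap
  · obtain ⟨E, h1, h2, h3⟩ := small (closure U) isClosed_closure hden
    exact ⟨E, fun x hx => (h1 hx).1, h2, fun x hx => h3 ⟨hx, subset_closure hx⟩⟩
  let P : Set S := {p | p ∈ (Z : Set S) ∧ p ≠ η ∧ p ∈ closure (U ∩ closure {p})}
  let M : Set S := {p | p ∈ P ∧ ∀ q ∈ P, q ⤳ p → q = p}
  have hPsmall : ∀ p ∈ P, ¬ (Z : Set S) ⊆ closure {p} := fun p hp hle =>
    hp.2.1 (eq_of_gen_gen (specializes_iff_mem_closure.mpr (hle hη.mem))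
      (hη.specializes hp.1))
  have hcov : U ⊆ ⋃ p ∈ M, closure {p} := fun x hx => by
    have hxP : x ∈ P := ⟨hUZ hx, fun h => hηU (h ▸ hx), subset_closure ⟨hx, subset_closure rfl⟩⟩
    obtain ⟨y, hy, hyx, hmax⟩ := exists_maximal S P hxP
    exact Set.mem_biUnion (show y ∈ M from ⟨hy, hmax⟩) (specializes_iff_mem_closure.mp hyx)
  have hMinf : M.Infinite := fun hfin => by
    have hcl : IsClosed (⋃ p ∈ M, closure ({p} : Set S)) := hfin.isClosed_biUnion fun _ _ => isClosed_closure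
    have := (hη.mem : η ∈ (Z : Set S))
    obtain ⟨p, hp, hpη⟩ := Set.mem_iUnion₂.mp (closure_minimal hcov hcl (hden this))
    exact hPsmall p hp.1 (hη.def ▸ closure_minimal (Set.singleton_subset_iff.mpr hpη) isClosed_closure)
  let g : ℕ → S := fun n => (hMinf.natEmbedding M n : S)
  have hg : Function.Injective g := fun a b h => (hMinf.natEmbedding M).injective (Subtype.ext h)
  have hgM : ∀ n, g n ∈ M := fun n => (hMinf.natEmbedding M n).2
  choose E hE hEc hEd using fun n => small _ (isClosed_closure (s := {g n})) (hPsmall _ (hgM n).1)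
  refine ⟨⋃ n, E n, Set.iUnion_subset fun n x hx => (hE n hx).1, Set.countable_iUnion hEc, ?_⟩
  have hgE : Set.range g ⊆ closure (⋃ n, E n) := by
    rintro _ ⟨n, rfl⟩
    exact closure_minimal ((hEd n).trans (closure_mono (Set.subset_iUnion E n))) isClosed_closure
      (hgM n).1.2.2
  suffices hF : (Z : Set S) ⊆ closure (Set.range g) from
    fun x hx => closure_minimal hgE isClosed_closure (hF (hUZ hx))
  by_contra hF
  obtain ⟨s, hsf, hsc, hsi, hsU⟩ := NoetherianSpace.exists_finite_set_isClosed_irreducible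
    (isClosed_closure (s := Set.range g))
  -- some component contains two of the points
  obtain ⟨n, -, k, -, hnk, C, hCs, hnC, hkC⟩ : ∃ n ∈ Set.univ, ∃ k ∈ Set.univ, n ≠ k ∧
      ∃ C ∈ s, g n ∈ C ∧ g k ∈ C := by
    have hmem : ∀ n, ∃ C : s, g n ∈ (C : Set S) := fun n => by
      have : g n ∈ ⋃₀ s := hsU ▸ subset_closure ⟨n, rfl⟩
      obtain ⟨C, hC, hn⟩ := this
      exact ⟨⟨C, hC⟩, hn⟩
    choose c hc using hmem
    haveI := hsf.to_subtype
    obtain ⟨n, k, hne, heq⟩ := Finite.exists_ne_map_eq_of_infinite c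
    exact ⟨n, trivial, k, trivial, hne, c n, (c n).2, hc n, heq ▸ hc k⟩
  obtain ⟨C', hC'sub, hC'min⟩ : ∃ C', (C ⊆ C' ∧ C' ∈ s) ∧ ∀ D ∈ s, C' ⊆ D → D = C' := by
    obtain ⟨C', hle, hmax⟩ := hsf.exists_le_maximal hCs
    exact ⟨C', ⟨hle, hmax.prop⟩, fun D hD h => (hmax.2 hD h).antisymm h⟩
  obtain ⟨q, hq⟩ := QuasiSober.sober (hsi C' hC'sub.2) (hsc C' hC'sub.2)
  have hC'F : C' ⊆ closure (Set.range g) := hsU ▸ Set.subset_sUnion_of_mem hC'sub.2
  have hrange : closure (Set.range g) ⊆ (Z : Set S) := closure_minimal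
    (Set.range_subset_iff.mpr fun n => (hgM n).1.1) Z.2
  have hqP : q ∈ P := by
    refine ⟨hrange (hC'F hq.mem), fun h => hF ?_, ?_⟩
    · rw [← hη.def]
      exact closure_minimal (Set.singleton_subset_iff.mpr (h ▸ hC'F hq.mem)) isClosed_closure
    · have hsplit : closure (Set.range g) ⊆
          closure (Set.range g ∩ C') ∪ ⋃ D ∈ s \ {C'}, D := by
        refine closure_minimal ?_ (isClosed_closure.union
          ((hsf.subset Set.diff_subset).isClosed_biUnion fun D hD => hsc D hD.1))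
        intro x hx
        have : x ∈ ⋃₀ s := hsU ▸ subset_closure hx
        obtain ⟨D, hD, hxD⟩ := this
        by_cases h : D = C'
        · exact Or.inl (subset_closure ⟨hx, h ▸ hxD⟩)
        · exact Or.inr (Set.mem_biUnion ⟨hD, h⟩ hxD)
      rcases hsplit (hC'F hq.mem) with h | h
      · refine closure_minimal ?_ isClosed_closure h
        rintro _ ⟨⟨m, rfl⟩, hm⟩
        refine closure_mono (Set.inter_subset_inter_right U ?_) (hgM m).1.2.2
        exact closure_minimal (Set.singleton_subset_iff.mpr (hq.def.symm ▸ hm)) isClosed_closure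
      · obtain ⟨D, hD, hqD⟩ := Set.mem_iUnion₂.mp h
        have : C' ⊆ D := hq.def ▸ closure_minimal (Set.singleton_subset_iff.mpr hqD) (hsc D hD.1)
        exact absurd (hC'min D hD.1 this) hD.2
  have e1 := (hgM n).2 q hqP (hq.specializes (hC'sub.1 hnC))
  have e2 := (hgM k).2 q hqP (hq.specializes (hC'sub.1 hkC))
  exact hnk (hg (e1.symm.trans e2))

end Groth.Agent.SpecializeLib
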